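import Mathlib

/-!
The degree equation of the principal block for a simple group whose order is four times two prime powers.
-/

set_option autoImplicit false

namespace CfsgLib.PQFour

/-- A degree `d` and a neighbour `e` built from two complementary primes. -/
def Pure (p d e : ℕ) : Prop :=
  (∃ i j : ℕ, 1 ≤ i ∧ d = p ^ i ∧ e = 2 * 3 ^ j) ∨ (∃ i j : ℕ, 1 ≤ i ∧ d = 3 ^ i ∧ e = 2 * p ^ j)

theorem exists_two_pows {p : ℕ} (hp : p.Prime) {n A B : ℕ} (h : n ∣ p ^ A * 3 ^ B) :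
    ∃ i j : ℕ, n = p ^ i * 3 ^ j := by
  obtain ⟨u, v, hu, hv, rfl⟩ := Nat.dvd_mul.1 h
  obtain ⟨i, -, rfl⟩ := (Nat.dvd_prime_pow hp).1 hu
  obtain ⟨j, -, rfl⟩ := (Nat.dvd_prime_pow Nat.prime_three).1 hv
  exact ⟨i, j, rfl⟩

theorem odd_dvd_cancel {n C A B p : ℕ} (hn : n % 2 = 1) (h : n ∣ 2 ^ C * (p ^ A * 3 ^ B)) :
    n ∣ p ^ A * 3 ^ B :=
  (Nat.Coprime.pow_right C (Nat.coprime_two_right.2 (Nat.odd_iff.2 hn))).dvd_of_dvd_mul_left h

theorem pure_of_dvd {p : ℕ} (hp : p.Prime) {d e A B C : ℕ} (hd2 : d % 2 = 1) (hd1 : 1 < d)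
    (he : e % 4 = 2) (hde : e = d + 1 ∨ e + 1 = d) (hdd : d ∣ 2 ^ C * (p ^ A * 3 ^ B))
    (hee : e ∣ 2 ^ C * (p ^ A * 3 ^ B)) : Pure p d e := by
  obtain ⟨i, j, rfl⟩ := exists_two_pows hp (odd_dvd_cancel hd2 hdd)
  have hme : e / 2 ∣ e := ⟨2, by omega⟩
  obtain ⟨u, v, huv⟩ := exists_two_pows hp (odd_dvd_cancel (n := e / 2) (by omega) (hme.trans hee))
  have he2 : e = 2 * (p ^ u * 3 ^ v) := by omega
  have hnone : ∀ r : ℕ, r.Prime → r ∣ p ^ i * 3 ^ j → ¬ r ∣ e := by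
    intro r hr hrd hre
    have : r ∣ 1 := by
      rcases hde with h | h
      · rw [h] at hre; exact (Nat.dvd_add_right hrd).1 hre
      · rw [← h] at hrd; exact (Nat.dvd_add_right hre).1 hrd
    exact hr.ne_one (Nat.dvd_one.1 this)
  have hu : 1 ≤ i → u = 0 := fun hi => by
    by_contra hu
    exact hnone p hp ((dvd_pow_self p (by omega)).mul_right _)
      (he2 ▸ ((dvd_pow_self p hu).mul_right _).mul_left 2)
  have hv : 1 ≤ j → v = 0 := fun hj => by
    by_contra hv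
    exact hnone 3 Nat.prime_three ((dvd_pow_self 3 (by omega)).mul_left _)
      (he2 ▸ ((dvd_pow_self 3 hv).mul_left _).mul_left 2)
  rcases Nat.eq_zero_or_pos j with rfl | hj
  · rcases Nat.eq_zero_or_pos i with rfl | hi
    · simp at hd1
    · refine Or.inl ⟨i, v, hi, by simp, ?_⟩
      rw [he2, hu hi, pow_zero, one_mul]
  · rcases Nat.eq_zero_or_pos i with rfl | hi
    · refine Or.inr ⟨j, u, hj, by simp, ?_⟩
      rw [he2, hv hj, pow_zero, mul_one]
    · have he' : e = 2 := by rw [he2, hu hi, hv hj]; simp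
      have h3 : 6 ≤ p ^ i * 3 ^ j := Nat.mul_le_mul (hp.two_le.trans (Nat.le_self_pow (by omega) p))
        (Nat.le_self_pow (by omega) 3)
      omega

variable {p : ℕ}

theorem three_dvd_pow {i : ℕ} (hi : 1 ≤ i) : 3 ∣ 3 ^ i := dvd_pow_self 3 (by omega)

theorem not_three_dvd (hp : p.Prime) (hp5 : 5 ≤ p) (i : ℕ) : ¬ 3 ∣ p ^ i := fun h => by
  have := (Nat.prime_dvd_prime_iff_eq Nat.prime_three hp).1 (Nat.prime_three.dvd_of_dvd_pow h)
  omega

theorem not_p_dvd (hp : p.Prime) (hp5 : 5 ≤ p) (i : ℕ) : ¬ p ∣ 3 ^ i := fun h => by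
  have := (Nat.prime_dvd_prime_iff_eq hp Nat.prime_three).1 (hp.dvd_of_dvd_pow h)
  omega

/-- No degree pattern with one negative sign. -/
theorem no_plus (hp : p.Prime) (hp5 : 5 ≤ p) {a b c : ℕ} (ha : a % 4 = 1) (hb : b % 4 = 1)
    (hc : c % 4 = 3) (hPa : Pure p a (a + 1)) (hPb : Pure p b (b + 1)) (hPc : Pure p c (c - 1))
    (h : 1 + a + b = c) : False := by
  wlog hord : (∃ i, 1 ≤ i ∧ a = 3 ^ i) ∨ ∃ i, 1 ≤ i ∧ b = p ^ i generalizing a b
  · rcases id hPa with ⟨i, j, hi, hai, -⟩ | ⟨i, j, hi, hai, -⟩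
    · rcases id hPb with ⟨i', j', hi', hbi, -⟩ | ⟨i', j', hi', hbi, -⟩
      · exact this ha hb hPa hPb h (Or.inr ⟨i', hi', hbi⟩)
      · exact this hb ha hPb hPa (by omega) (Or.inl ⟨i', hi', hbi⟩)
    · exact this ha hb hPa hPb h (Or.inl ⟨i, hi, hai⟩)
  rcases hPa with ⟨i, j, hi, rfl, hae⟩ | ⟨i, j, hi, rfl, hae⟩ <;>
    rcases hPb with ⟨i', j', hi', rfl, hbe⟩ | ⟨i', j', hi', rfl, hbe⟩ <;>
    rcases hPc with ⟨i'', j'', hi'', rfl, hce⟩ | ⟨i'', j'', hi'', rfl, hce⟩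
  · -- p, p, p
    have h1 : p ∣ p ^ i + p ^ i' := Nat.dvd_add (dvd_pow_self p (by omega)) (dvd_pow_self p (by omega))
    have h2 : p ∣ 1 + (p ^ i + p ^ i') := by rw [← add_assoc, h]; exact dvd_pow_self p (by omega)
    exact hp.ne_one (Nat.dvd_one.1 ((Nat.dvd_add_left h1).1 h2))
  · -- p, p, 3
    have h1 := three_dvd_pow hi''
    have h2 := not_three_dvd hp hp5 i
    have h3 : 3 ∣ 3 ^ j ∨ j = 0 := by rcases Nat.eq_zero_or_pos j with h | h <;> [exact Or.inr h; exact Or.inl (three_dvd_pow h)]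
    have h4 : 3 ∣ 3 ^ j' ∨ j' = 0 := by rcases Nat.eq_zero_or_pos j' with h | h <;> [exact Or.inr h; exact Or.inl (three_dvd_pow h)]
    have h5 : p ≤ p ^ i := Nat.le_self_pow (by omega) p
    have h6 : p ≤ p ^ i' := Nat.le_self_pow (by omega) p
    rcases h3 with h3 | rfl <;> rcases h4 with h4 | rfl <;>
      (try simp only [pow_zero] at *) <;> omega
  · exact (hord.elim (fun ⟨k, hk, e⟩ => not_three_dvd hp hp5 i (e ▸ three_dvd_pow hk))
      fun ⟨k, hk, e⟩ => not_three_dvd hp hp5 k (e ▸ three_dvd_pow hi'))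
  · exact (hord.elim (fun ⟨k, hk, e⟩ => not_three_dvd hp hp5 i (e ▸ three_dvd_pow hk))
      fun ⟨k, hk, e⟩ => not_three_dvd hp hp5 k (e ▸ three_dvd_pow hi'))
  · -- 3, p, p
    rcases Nat.eq_zero_or_pos j'' with rfl | hj''
    · simp only [pow_zero] at hce
      have : p ≤ p ^ i'' := Nat.le_self_pow (by omega) p
      omega
    · have h1 := three_dvd_pow hi
      have h2 := three_dvd_pow hj''
      have h3 := not_three_dvd hp hp5 i'
      omega
  · -- 3, p, 3
    rcases Nat.eq_zero_or_pos j with rfl | hj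
    · simp only [pow_zero] at hae
      have h1 : 3 ≤ 3 ^ i := Nat.le_self_pow (by omega) 3
      omega
    · have h1 : p ∣ 3 ^ i + 1 := by rw [hae]; exact (dvd_pow_self p (by omega)).mul_left 2
      have h2 : p ∣ 3 ^ i'' := by
        rw [← h, show 1 + 3 ^ i + p ^ i' = (3 ^ i + 1) + p ^ i' by ring]
        exact Nat.dvd_add h1 (dvd_pow_self p (by omega))
      exact not_p_dvd hp hp5 i'' h2
  · -- 3, 3, p
    rcases Nat.eq_zero_or_pos j'' with rfl | hj''
    · simp only [pow_zero] at hce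
      have : p ≤ p ^ i'' := Nat.le_self_pow (by omega) p
      omega
    · rcases Nat.eq_zero_or_pos j with rfl | hj
      · simp only [pow_zero] at hae
        have h1 : 3 ≤ 3 ^ i := Nat.le_self_pow (by omega) 3
        omega
      rcases Nat.eq_zero_or_pos j' with rfl | hj'
      · simp only [pow_zero] at hbe
        have h1 : 3 ≤ 3 ^ i' := Nat.le_self_pow (by omega) 3
        omega
      have h1 : p ∣ 3 ^ i + 1 := by rw [hae]; exact (dvd_pow_self p (by omega)).mul_left 2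
      have h2 : p ∣ 3 ^ i' + 1 := by rw [hbe]; exact (dvd_pow_self p (by omega)).mul_left 2
      have h3 : p ∣ (3 ^ i + 1) + (3 ^ i' + 1) := Nat.dvd_add h1 h2
      rw [show (3 ^ i + 1) + (3 ^ i' + 1) = p ^ i'' + 1 by omega] at h3
      exact hp.ne_one (Nat.dvd_one.1 ((Nat.dvd_add_right (dvd_pow_self p (by omega))).1 h3))
  · -- 3, 3, 3
    have h1 := three_dvd_pow hi
    have h2 := three_dvd_pow hi'
    have h3 := three_dvd_pow hi''
    omega

/-- The degrees with two negative signs are `5, 3, 3`. -/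
theorem minus (hp : p.Prime) (hp5 : 5 ≤ p) {a b c : ℕ} (ha : a % 4 = 1) (hb : b % 4 = 3)
    (hc : c % 4 = 3) (hPa : Pure p a (a + 1)) (hPb : Pure p b (b - 1)) (hPc : Pure p c (c - 1))
    (h : 1 + a = b + c) : p = 5 ∧ a = 5 ∧ b = 3 ∧ c = 3 := by
  have key3 : ∀ {x y : ℕ}, 1 ≤ x → p ^ x - 1 = 2 * 3 ^ y → 1 ≤ y := by
    intro x y hx hxy
    rcases Nat.eq_zero_or_pos y with rfl | hy
    · simp only [pow_zero] at hxy
      have : p ≤ p ^ x := Nat.le_self_pow (by omega) p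
      omega
    · exact hy
  rcases hPa with ⟨i, j, hi, rfl, hae⟩ | ⟨i, j, hi, rfl, hae⟩ <;>
    rcases hPb with ⟨i', j', hi', rfl, hbe⟩ | ⟨i', j', hi', rfl, hbe⟩ <;>
    rcases hPc with ⟨i'', j'', hi'', rfl, hce⟩ | ⟨i'', j'', hi'', rfl, hce⟩
  · exfalso
    have h1 : p ∣ p ^ i' + p ^ i'' := Nat.dvd_add (dvd_pow_self p (by omega)) (dvd_pow_self p (by omega))
    rw [← h] at h1
    exact hp.ne_one (Nat.dvd_one.1 ((Nat.dvd_add_left (dvd_pow_self p (by omega))).1 h1))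
  · exfalso
    have h1 := three_dvd_pow hi''
    have h2 := three_dvd_pow (key3 hi' hbe)
    rcases Nat.eq_zero_or_pos j with rfl | hj
    · simp only [pow_zero] at hae
      have : p ≤ p ^ i := Nat.le_self_pow (by omega) p
      omega
    · have h3 := three_dvd_pow hj
      omega
  · exfalso
    have h1 := three_dvd_pow hi'
    have h2 := three_dvd_pow (key3 hi'' hce)
    rcases Nat.eq_zero_or_pos j with rfl | hj
    · simp only [pow_zero] at hae
      have : p ≤ p ^ i := Nat.le_self_pow (by omega) p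
      omega
    · have h3 := three_dvd_pow hj
      omega
  · -- p, 3, 3
    have hsum : 3 ^ i' + 3 ^ i'' = 2 * 3 ^ j := by omega
    have heq : i' = i'' := by
      by_contra hne
      clear h hb hc hbe hce
      wlog hlt : i' < i'' generalizing i' i''
      · exact this i'' hi'' i' hi' (by omega) (Ne.symm hne) (by omega)
      obtain ⟨k, rfl⟩ : ∃ k, i'' = i' + (k + 1) := ⟨i'' - i' - 1, by omega⟩
      have h2 : 3 ^ i' * (1 + 3 ^ (k + 1)) = 2 * 3 ^ j := by rw [← hsum]; ring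
      have hcop : Nat.Coprime (1 + 3 ^ (k + 1)) (3 ^ j) := by
        refine Nat.Coprime.pow_right _ (Nat.Coprime.symm (Nat.prime_three.coprime_iff_not_dvd.2 ?_))
        have := three_dvd_pow (show 1 ≤ k + 1 by omega)
        omega
      have h3 : 1 + 3 ^ (k + 1) ∣ 2 := hcop.dvd_of_dvd_mul_right ⟨3 ^ i', by rw [← h2]; ring⟩
      have h4 := Nat.le_of_dvd (by norm_num) h3
      have h5 : 3 ≤ 3 ^ (k + 1) := Nat.le_self_pow (by omega) 3
      omega
    subst heq
    have hj : j' = 0 := by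
      by_contra hj
      have h3 : p ∣ 3 ^ i' - 1 := by rw [hbe]; exact (dvd_pow_self p hj).mul_left 2
      have h2 : p ∣ p ^ i := dvd_pow_self p (by omega)
      have h4 : p ∣ 2 * (3 ^ i' - 1) + 1 := by
        rw [show 2 * (3 ^ i' - 1) + 1 = p ^ i by omega]; exact h2
      exact hp.ne_one (Nat.dvd_one.1 ((Nat.dvd_add_right (h3.mul_left 2)).1 h4))
    subst hj
    simp only [pow_zero] at hbe
    have h5 : p ^ i = 5 := by omega
    have hp5' : p = 5 := by
      have : p ∣ 5 := h5 ▸ dvd_pow_self p (by omega)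
      exact (Nat.prime_dvd_prime_iff_eq hp (by norm_num)).1 this
    exact ⟨hp5', h5, by omega, by omega⟩
  · exfalso
    have h1 := three_dvd_pow hi
    have h2 := three_dvd_pow (key3 hi' hbe)
    have h3 := three_dvd_pow (key3 hi'' hce)
    omega
  · exfalso
    rcases Nat.eq_zero_or_pos j with rfl | hj
    · simp only [pow_zero] at hae
      have h1 : 3 ≤ 3 ^ i := Nat.le_self_pow (by omega) 3
      omega
    · have h1 : p ∣ p ^ i' + 3 ^ i'' := by
        rw [← h, add_comm, hae]; exact (dvd_pow_self p (by omega)).mul_left 2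
      exact not_p_dvd hp hp5 i'' ((Nat.dvd_add_right (dvd_pow_self p (by omega))).1 h1)
  · exfalso
    rcases Nat.eq_zero_or_pos j with rfl | hj
    · simp only [pow_zero] at hae
      have h1 : 3 ≤ 3 ^ i := Nat.le_self_pow (by omega) 3
      omega
    · have h1 : p ∣ 3 ^ i' + p ^ i'' := by
        rw [← h, add_comm, hae]; exact (dvd_pow_self p (by omega)).mul_left 2
      exact not_p_dvd hp hp5 i' ((Nat.dvd_add_left (dvd_pow_self p (by omega))).1 h1)
  · exfalso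
    have h1 := three_dvd_pow hi
    have h2 := three_dvd_pow hi'
    have h3 := three_dvd_pow hi''
    omega

/-- The degrees forced by the order formula. -/
theorem degrees (hp : p.Prime) (hp5 : 5 ≤ p) {A B C a b c : ℕ} {ε : ℤ} (hε : ε = 1 ∨ ε = -1)
    (ha1 : 1 < a) (hb1 : 1 < b) (hc1 : 1 < c) (ha : (4 : ℤ) ∣ (a : ℤ) - 1) (hb : (4 : ℤ) ∣ (b : ℤ) - ε)
    (hc : (4 : ℤ) ∣ (c : ℤ) + 1) (hlin : 1 + (a : ℤ) + ε * b - c = 0)
    (hda : a ∣ 2 ^ C * (p ^ A * 3 ^ B)) (hdb : b ∣ 2 ^ C * (p ^ A * 3 ^ B))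
    (hdc : c ∣ 2 ^ C * (p ^ A * 3 ^ B))
    (hea : (a : ℤ) + 1 ∣ (2 ^ C * (p ^ A * 3 ^ B) : ℕ)) (heb : (b : ℤ) + ε ∣ (2 ^ C * (p ^ A * 3 ^ B) : ℕ))
    (hec : (c : ℤ) - 1 ∣ (2 ^ C * (p ^ A * 3 ^ B) : ℕ)) :
    ε = -1 ∧ p = 5 ∧ a = 5 ∧ b = 3 ∧ c = 3 := by
  have ha4 : a % 4 = 1 := by omega
  have hc4 : c % 4 = 3 := by omega
  have hPa : Pure p a (a + 1) := pure_of_dvd hp (by omega) ha1 (by omega) (Or.inl rfl) hda
    (Int.natCast_dvd_natCast.1 (by push_cast; push_cast at hea; exact hea))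
  have hPc : Pure p c (c - 1) := pure_of_dvd hp (by omega) hc1 (by omega) (Or.inr (by omega)) hdc
    (Int.natCast_dvd_natCast.1 (by rw [Nat.cast_sub (by omega)]; exact hec))
  rcases hε with rfl | rfl
  · exfalso
    have hb4 : b % 4 = 1 := by omega
    refine no_plus hp hp5 ha4 hb4 hc4 hPa (pure_of_dvd hp (by omega) hb1 (by omega) (Or.inl rfl) hdb
      (Int.natCast_dvd_natCast.1 (by push_cast; push_cast at heb; exact heb))) hPc (by omega)
  · have hb4 : b % 4 = 3 := by omega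
    exact ⟨rfl, minus hp hp5 ha4 hb4 hc4 hPa (pure_of_dvd hp (by omega) hb1 (by omega) (Or.inr (by omega)) hdb
      (Int.natCast_dvd_natCast.1 (by rw [Nat.cast_sub (by omega)]; exact heb))) hPc (by omega)⟩

end CfsgLib.PQFour
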