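import Mathlib
import Cfsg.Agent.Lib.PQFour.Arith
import Cfsg.Agent.Lib.InvolChar.Basic
import Cfsg.Agent.Lib.Char.Integral
import Cfsg.Agent.Lib.Blocks.GaloisInv
import Cfsg.Agent.Lib.Char.PResidualSum
import Cfsg.Agent.Lib.SmallGroups.Basic
import Cfsg.Agent.S0144
import Cfsg.Agent.S0143
import Cfsg.Agent.S0202
import Cfsg.Agent.S0494
import Cfsg.Agent.S0496
import Cfsg.Agent.S0904
import Cfsg.Agent.S0948
import Cfsg.Agent.S0992
import Cfsg.Agent.S3278
import Cfsg.Agent.S3331
import Cfsg.Agent.S4479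

/-!
Simple groups of order `3 p^a q^b` or `4 p^a q^b` with `a ≤ 2`.
-/

set_option autoImplicit false
set_option linter.style.haveILetI false
set_option linter.unusedSectionVars false

namespace CfsgLib.PQFour

open Subgroup

variable {G : Type*} [Group G] [Finite G] [IsSimpleGroup G]

theorem comm_of_prime_card (h : (Nat.card G).Prime) : IsMulCommutative G := by
  haveI := Fact.mk h
  haveI : IsCyclic G := isCyclic_of_prime_card rfl
  exact IsCyclic.isMulCommutative

theorem not_two_primes (hna : ¬ IsMulCommutative G) {r s u v : ℕ} (hr : r.Prime) (hs : s.Prime)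
    (h : Nat.card G = r ^ u * s ^ v) : False := by
  have hsol := Cfsg.Agent.S0144.result r s u v hr hs h
  exact hna (isMulCommutative_iff.2 fun x y => IsSimpleGroup.comm_iff_isSolvable.mpr hsol x y)

theorem no_index_two (hna : ¬ IsMulCommutative G) (H : Subgroup G) (h : H.index = 2) : False := by
  haveI := Subgroup.normal_of_index_eq_two h
  rcases Subgroup.Normal.eq_bot_or_eq_top (H := H) inferInstance with h1 | h1
  · rw [h1, index_bot] at h
    exact hna (comm_of_prime_card (h ▸ Nat.prime_two))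
  · rw [h1, index_top] at h
    omega

/-- The class size of a non-identity element is no prime power. -/
theorem index_ne_pow (hna : ¬ IsMulCommutative G) {g : G} (hg : g ≠ 1) {p : ℕ} (hp : p.Prime) {k : ℕ}
    (h : (centralizer ({g} : Set G)).index ∣ p ^ k) : False := by
  obtain ⟨j, -, hj⟩ := (Nat.dvd_prime_pow hp).1 h
  exact hna (comm_of_prime_card (Cfsg.Agent.S0143.result p j hp g hg hj))

/-- The order-three shape. -/
theorem shape_three (hna : ¬ IsMulCommutative G) {r s u v : ℕ} (hr : r.Prime) (hs : s.Prime)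
    (hr3 : r ≠ 3) (hs3 : s ≠ 3) (hrs : r ≠ s) (hG : Nat.card G = r ^ u * s ^ v * 3) :
    Nonempty (G ≃* alternatingGroup (Fin 5)) ∨
      Nonempty (G ≃* Matrix.ProjectiveSpecialLinearGroup (Fin 2) (ZMod 7)) := by
  haveI : Fact (Nat.Prime 3) := ⟨Nat.prime_three⟩
  obtain ⟨S⟩ : Nonempty (Sylow 3 G) := inferInstance
  have hC := Cfsg.Agent.S0904.result r s 3 u v hr hs hrs hr3 hs3 hG S
  have h3 : ¬ 3 ∣ r ^ u * s ^ v := by
    intro h
    rcases Nat.prime_three.dvd_mul.1 h with h | h
    · exact hr3 ((Nat.prime_dvd_prime_iff_eq Nat.prime_three hr).1 (Nat.prime_three.dvd_of_dvd_pow h)).symm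
    · exact hs3 ((Nat.prime_dvd_prime_iff_eq Nat.prime_three hs).1 (Nat.prime_three.dvd_of_dvd_pow h)).symm
  have hS : Nat.card (S : Subgroup G) = 3 := by
    simpa using CfsgLib.SmallGroups.card_sylow_eq (p := 3) (a := 1) (by rw [hG, pow_one, mul_comm]) h3 S
  rcases Cfsg.Agent.S3331.result (S : Subgroup G) hS hC with ⟨N, hN, hnil, hcop, hq⟩ | ⟨N, hN, -, -, ⟨e⟩⟩ | h
  · exfalso
    haveI := hN
    rcases hN.eq_bot_or_eq_top with h | h <;> subst h
    · rcases hq with hq | ⟨⟨e⟩⟩
      · rw [Nat.card_congr QuotientGroup.quotientBot.toEquiv] at hq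
        exact hna (comm_of_prime_card (hq ▸ Nat.prime_three))
      · rw [← Nat.card_congr (e.symm.trans QuotientGroup.quotientBot).toEquiv, Nat.card_perm,
          Nat.card_eq_fintype_card, Fintype.card_fin] at hG
        refine not_two_primes hna Nat.prime_two Nat.prime_three (u := 1) (v := 1) ?_
        rw [← Nat.card_congr (e.symm.trans QuotientGroup.quotientBot).toEquiv, Nat.card_perm,
          Nat.card_eq_fintype_card, Fintype.card_fin]
        rfl
    · have h1 : Nat.card (G ⧸ (⊤ : Subgroup G)) = 1 := by rw [← index_eq_card, index_top]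
      rcases hq with hq | ⟨⟨e⟩⟩
      · omega
      · rw [Nat.card_congr e.toEquiv, Nat.card_perm, Nat.card_eq_fintype_card, Fintype.card_fin] at h1
        norm_num [Nat.factorial] at h1
  · left
    haveI := hN
    rcases hN.eq_bot_or_eq_top with h | h <;> subst h
    · exact ⟨QuotientGroup.quotientBot.symm.trans e⟩
    · exfalso
      have h1 : Nat.card (G ⧸ (⊤ : Subgroup G)) = 1 := by rw [← index_eq_card, index_top]
      rw [Nat.card_congr e.toEquiv, nat_card_alternatingGroup, Nat.card_eq_fintype_card, Fintype.card_fin] at h1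
      norm_num [Nat.factorial] at h1
  · exact Or.inr h

/-- A simple group embeds in the permutations of its Sylow subgroups. -/
theorem card_dvd_factorial {p : ℕ} [hp : Fact p.Prime] (h : Nat.card (Sylow p G) ≠ 1) :
    Nat.card G ∣ (Nat.card (Sylow p G)).factorial := by
  haveI : Nontrivial (Sylow p G) := Finite.one_lt_card_iff_nontrivial.1 (by
    have := Nat.card_pos (α := Sylow p G); omega)
  obtain ⟨P, Q, hPQ⟩ := exists_pair_ne (Sylow p G)
  obtain ⟨g, hg⟩ := MulAction.exists_smul_eq G P Q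
  have hinj := CfsgLib.SmallGroups.toPermHom_injective_of_not_trivial (G := G) (X := Sylow p G)
    ⟨g, P, fun h => hPQ (h.symm.trans hg)⟩
  have := Subgroup.card_dvd_of_injective _ hinj
  rwa [Nat.card_perm] at this

theorem sylow_card_ne_one (hna : ¬ IsMulCommutative G) {p : ℕ} [hp : Fact p.Prime] (hpG : p ∣ Nat.card G) :
    Nat.card (Sylow p G) ≠ 1 := by
  intro h
  obtain ⟨P⟩ : Nonempty (Sylow p G) := inferInstance
  have hPn := CfsgLib.SmallGroups.sylow_normal_of_card_eq_one h P
  rcases hPn.eq_bot_or_eq_top with h1 | h1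
  · exact P.ne_bot_of_dvd_card hpG h1
  · obtain ⟨k, hk⟩ := P.2.exists_card_eq
    rw [h1, card_top] at hk
    exact not_two_primes hna hp.out hp.out (u := k) (v := 0) (by rw [hk, pow_zero, mul_one])

theorem small_order (hna : ¬ IsMulCommutative G) (h : Nat.card G ≤ 1092)
    (hn : Nat.card G ∉ ([60, 168, 360, 504, 660, 1092] : List ℕ)) : False := by
  rcases Cfsg.Agent.S0496.result hna h with e | e | e | e | e | e <;> rw [e] at hn <;> simp at hn

/-- No simple group of order `36 q^B`. -/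
theorem not_thirty_six (hna : ¬ IsMulCommutative G) {q B : ℕ} (hq : q.Prime) (hq5 : 5 ≤ q)
    (hG : Nat.card G = 36 * q ^ B) : False := by
  rcases Nat.eq_zero_or_pos B with rfl | hB
  · exact small_order hna (by rw [hG]; norm_num) (by rw [hG]; simp)
  haveI : Fact q.Prime := ⟨hq⟩
  have hqd : q ∣ Nat.card G := hG ▸ (dvd_pow_self q (by omega)).mul_left 36
  have hq36 : ¬ q ∣ 36 := fun h => by
    have : q ∣ 6 ^ 2 := h
    have := Nat.le_of_dvd (by norm_num) (hq.dvd_of_dvd_pow this)
    interval_cases q <;> norm_num at *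
  have hm := CfsgLib.SmallGroups.card_sylow_mem_filter (p := q) (G := G) (a := B) (m := 36)
    (by rw [hG]; ring) hq36
  simp only [Finset.mem_filter, Finset.mem_range] at hm
  obtain ⟨-, hd, hmod⟩ := hm
  have hn1 := sylow_card_ne_one hna hqd
  have hfac := card_dvd_factorial hn1
  obtain ⟨n, hn⟩ : ∃ n, Nat.card (Sylow q G) = n := ⟨_, rfl⟩
  rw [hn] at hd hmod hn1 hfac
  have hcases : (n = 6 ∧ q = 5) ∨ (n = 12 ∧ q = 11) ∨ (n = 18 ∧ q = 17) ∨ (n = 36 ∧ (q = 5 ∨ q = 7)) := by
    have hmem : n ∈ Nat.divisors 36 := Nat.mem_divisors.2 ⟨Nat.dvd_of_mod_eq_zero hd, by norm_num⟩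
    have hqn : q ∣ n - 1 := ⟨n / q, by have := Nat.div_add_mod n q; omega⟩
    have hn0 : n ≠ 0 := by rintro rfl; simp at hd
    have key : ∀ n ∈ Nat.divisors 36, ∀ q ∈ Nat.divisors (n - 1), n ≠ 1 → q.Prime → 5 ≤ q →
        (n = 6 ∧ q = 5) ∨ (n = 12 ∧ q = 11) ∨ (n = 18 ∧ q = 17) ∨ (n = 36 ∧ (q = 5 ∨ q = 7)) := by
      decide +kernel
    exact key n hmem q (Nat.mem_divisors.2 ⟨hqn, by omega⟩) hn1 hq hq5
  -- at most one power of `q`
  have hB1 : B = 1 := by
    by_contra hB1
    rcases hcases with ⟨rfl, rfl⟩ | ⟨rfl, rfl⟩ | ⟨rfl, rfl⟩ | ⟨rfl, hq57⟩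
    · have : 5 ^ 2 ∣ (6).factorial :=
        ((Nat.pow_dvd_pow 5 (show 2 ≤ B by omega)).trans (hG ▸ dvd_mul_left _ _)).trans hfac
      norm_num [Nat.factorial] at this
    · have : 11 ^ 2 ∣ (12).factorial :=
        ((Nat.pow_dvd_pow 11 (show 2 ≤ B by omega)).trans (hG ▸ dvd_mul_left _ _)).trans hfac
      norm_num [Nat.factorial] at this
    · have : 17 ^ 2 ∣ (18).factorial :=
        ((Nat.pow_dvd_pow 17 (show 2 ≤ B by omega)).trans (hG ▸ dvd_mul_left _ _)).trans hfac
      norm_num [Nat.factorial] at this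
    -- thirty-six self-normalizing Sylow subgroups
    obtain ⟨P⟩ : Nonempty (Sylow q G) := inferInstance
    have hPc : ∀ S : Sylow q G, Nat.card (S : Subgroup G) = q ^ B := fun S =>
      CfsgLib.SmallGroups.card_sylow_eq (by rw [hG]; ring) hq36 S
    have hNP : ∀ S : Sylow q G, normalizer ((S : Subgroup G) : Set G) = S := fun S => by
      refine (eq_of_le_of_card_ge le_normalizer ?_).symm
      have := CfsgLib.SmallGroups.card_sylow_mul_card_normalizer S
      rw [hn, hG] at this
      rw [hPc]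
      exact le_of_eq (Nat.eq_of_mul_eq_mul_left (by norm_num) this)
    -- the orbit of some other Sylow subgroup has size `q`
    have horb : ∃ R : Sylow q G, R ≠ P ∧ ((P : Subgroup G) ⊓ R).relIndex P = q := by
      by_contra hcon
      push_neg at hcon
      have hstab : ∀ R : Sylow q G, MulAction.stabilizer (P : Subgroup G) R =
          (R : Subgroup G).subgroupOf P := fun R => by
        ext x
        rw [MulAction.mem_stabilizer_iff, mem_subgroupOf]
        show (x : G) • R = R ↔ _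
        rw [Sylow.smul_eq_iff_mem_normalizer, ← Sylow.coe_coe, hNP]
      haveI := Fintype.ofFinite (Sylow q G)
      haveI : Fintype (MulAction.orbitRel.Quotient (P : Subgroup G) (Sylow q G)) := Fintype.ofFinite _
      classical
      have hmod2 : 36 % q ^ 2 = 1 := by
        have hc := Nat.card_congr (MulAction.selfEquivSigmaOrbits' (P : Subgroup G) (Sylow q G))
        rw [hn, Nat.card_sigma] at hc
        have hterm : ∀ ω : MulAction.orbitRel.Quotient (P : Subgroup G) (Sylow q G),
            (q ^ 2 ∣ Nat.card (MulAction.orbitRel.Quotient.orbit ω) ∧ ω ≠ Quotient.mk'' P) ∨ (Nat.card (MulAction.orbitRel.Quotient.orbit ω) = 1 ∧ ω = Quotient.mk'' P) := by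
          intro ω
          induction ω using Quotient.inductionOn' with | _ R =>
          have hidx : Nat.card (MulAction.orbit (P : Subgroup G) R) = ((P : Subgroup G) ⊓ R).relIndex P := by
            rw [Nat.card_coe_set_eq, ← MulAction.index_stabilizer, hstab, inf_relIndex_left]
            rfl
          by_cases hR : R = P
          · subst hR
            right
            refine ⟨?_, rfl⟩
            show Nat.card (MulAction.orbit _ R) = 1
            rw [hidx, inf_idem, relIndex_self]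
          · left
            constructor
            · show q ^ 2 ∣ Nat.card (MulAction.orbit _ R)
              rw [hidx]
              obtain ⟨i, -, hi⟩ := (Nat.dvd_prime_pow hq).1 ((relIndex_dvd_card ((P : Subgroup G) ⊓ R) _).trans (hPc P).dvd)
              rw [hi]
              refine Nat.pow_dvd_pow q ?_
              by_contra hi2
              rcases Nat.le_one_iff_eq_zero_or_eq_one.1 (by omega : i ≤ 1) with rfl | rfl
              · rw [pow_zero, relIndex_eq_one] at hi
                refine hR (Sylow.ext (eq_of_le_of_card_ge (le_trans hi inf_le_right) ?_)).symm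
                rw [hPc, hPc]
              · exact hcon R hR (by rw [hi, pow_one])
            · intro h
              rw [Quotient.eq'', MulAction.orbitRel_apply, MulAction.mem_orbit_iff] at h
              obtain ⟨x, hx⟩ := h
              refine hR (hx.symm.trans ?_)
              exact Sylow.smul_eq_iff_mem_normalizer.2 (le_normalizer x.2)
        rw [← Finset.sum_erase_add _ _ (Finset.mem_univ (Quotient.mk'' P))] at hc
        obtain ⟨t, ht⟩ : q ^ 2 ∣ ∑ ω ∈ Finset.univ.erase (Quotient.mk'' P : MulAction.orbitRel.Quotient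
            (P : Subgroup G) (Sylow q G)), Nat.card (MulAction.orbitRel.Quotient.orbit ω) := by
          refine Finset.dvd_sum fun ω hω => ?_
          rcases hterm ω with h | h
          · exact h.1
          · exact absurd h.2 (Finset.ne_of_mem_erase hω)
        have h1 : Nat.card (MulAction.orbitRel.Quotient.orbit (Quotient.mk'' P : MulAction.orbitRel.Quotient
            (P : Subgroup G) (Sylow q G))) = 1 := by
          rcases hterm (Quotient.mk'' P) with h | h
          · exact absurd rfl h.2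
          · exact h.1
        rw [ht, h1] at hc
        rw [hc, Nat.mul_add_mod_self_left, Nat.one_mod_eq_one]
        have := Nat.pow_le_pow_left hq5 2
        omega
      rcases hq57 with rfl | rfl <;> norm_num at hmod2
    obtain ⟨R, hRP, hRi⟩ := horb
    set D := (P : Subgroup G) ⊓ R
    have hDc : Nat.card D * q = q ^ B := by
      rw [← hPc P, ← relIndex_bot_left, ← relIndex_bot_left (↑P : Subgroup G), ← relIndex_mul_relIndex _ D _ bot_le inf_le_left, hRi]
    have hle : ∀ S : Sylow q G, D ≤ S → (S : Subgroup G) ≤ normalizer (D : Set G) := by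
      intro S hS
      have hidx : (D.subgroupOf S).index = q := by
        have h1 := Subgroup.card_mul_index (D.subgroupOf (S : Subgroup G))
        rw [Nat.card_congr (subgroupOfEquivOfLe hS).toEquiv, hPc, ← hDc] at h1
        exact Nat.eq_of_mul_eq_mul_left Nat.card_pos h1
      haveI : (D.subgroupOf (S : Subgroup G)).Normal := by
        refine Subgroup.normal_of_index_eq_minFac_card ?_
        rw [hidx, hPc, Nat.pow_minFac (by omega), hq.minFac_eq]
      exact (normal_subgroupOf_iff_le_normalizer hS).1 inferInstance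
    set N := normalizer (D : Set G) with hN
    have hPN := hle P inf_le_left
    have hRN := hle R inf_le_right
    have h1 := CfsgLib.SmallGroups.card_sylow_mul_card_normalizer (P.subtype hPN)
    have h2 : Nat.card (normalizer (((P.subtype hPN : Sylow q N) : Subgroup N) : Set N)) = q ^ B := by
      rw [Sylow.coe_subtype, ← subgroupOf_normalizer_eq hPN, hNP,
        Nat.card_congr (subgroupOfEquivOfLe hPN).toEquiv, hPc]
    rw [h2] at h1
    have hd36 : Nat.card (Sylow q N) ∣ 36 := by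
      have := N.card_subgroup_dvd_card
      rw [← h1, hG] at this
      exact Nat.dvd_of_mul_dvd_mul_right (pow_pos hq.pos _) this
    have hm1 : Nat.card (Sylow q N) ≠ 1 := by
      intro h
      haveI := (Nat.card_eq_one_iff_unique.1 h).1
      exact hRP (Sylow.subtype_injective (Subsingleton.elim (R.subtype hRN) (P.subtype hPN)))
    have hmodN : Nat.card (Sylow q N) % q = 1 := by
      have := card_sylow_modEq_one q N
      rwa [Nat.ModEq, Nat.one_mod_eq_one.2 (by omega)] at this
    have hNi : N.index * Nat.card (Sylow q N) = 36 := by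
      have := N.card_mul_index
      rw [← h1, hG] at this
      exact Nat.eq_of_mul_eq_mul_right (pow_pos hq.pos B) (by rw [← this]; ring)
    have hNtop : N ≠ ⊤ := by
      intro h
      have hDn : D.Normal := normalizer_eq_top_iff.1 h
      rcases hDn.eq_bot_or_eq_top with h' | h'
      · rw [h', card_bot, one_mul] at hDc
        have := Nat.pow_right_injective hq.two_le (show q ^ 1 = q ^ B by rw [pow_one]; exact hDc)
        omega
      · rw [h', card_top, hG] at hDc
        nlinarith [pow_pos hq.pos B, hq.two_le]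
    have hidx1 : N.index ≠ 1 := fun h => hNtop (index_eq_one.1 h)
    have hcases' : q = 5 ∧ Nat.card (Sylow q N) = 6 := by
      have key : ∀ k ∈ Nat.divisors 36, k ≠ 1 → k ≠ 36 →
          (k % 5 = 1 → k = 6) ∧ k % 7 ≠ 1 := by decide +kernel
      have hk := key _ (Nat.mem_divisors.2 ⟨hd36, by norm_num⟩) hm1 (fun h => hidx1 (by rw [h] at hNi; omega))
      rcases hq57 with rfl | rfl
      · exact ⟨rfl, hk.1 hmodN⟩
      · exact absurd hmodN hk.2
    obtain ⟨rfl, h6⟩ := hcases'
    rw [h6] at hNi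
    have hN6 : N.index = 6 := by omega
    have hfd : Nat.card G ∣ (6).factorial := by
      have hinj := CfsgLib.SmallGroups.toPermHom_injective_of_not_trivial (G := G) (X := G ⧸ N) (by
        obtain ⟨g, hg⟩ : ∃ g : G, g ∉ N := by
          by_contra hc
          push_neg at hc
          exact hNtop (eq_top_iff.2 fun g _ => hc g)
        refine ⟨g, ((1 : G) : G ⧸ N), fun h => hg ?_⟩
        rw [MulAction.Quotient.smul_coe, smul_eq_mul, mul_one, QuotientGroup.eq, mul_one] at h
        exact inv_mem_iff.1 h)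
      have := Subgroup.card_dvd_of_injective _ hinj
      rwa [Nat.card_perm, ← index_eq_card, hN6] at this
    have : 5 ^ 2 ∣ (6).factorial :=
      ((Nat.pow_dvd_pow 5 (show 2 ≤ B by omega)).trans (hG ▸ dvd_mul_left _ _)).trans hfd
    norm_num [Nat.factorial] at this
  subst hB1
  rcases hcases with ⟨-, rfl⟩ | ⟨-, rfl⟩ | ⟨-, rfl⟩ | ⟨-, rfl | rfl⟩ <;>
    exact small_order hna (by rw [hG]; norm_num) (by rw [hG]; simp)

/-- No simple group of order `20 * 3 ^ B`, `2 ≤ B`. -/
theorem not_twenty (hna : ¬ IsMulCommutative G) {B : ℕ} (hB : 2 ≤ B) (hG : Nat.card G = 20 * 3 ^ B) :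
    False := by
  haveI : Fact (Nat.Prime 3) := ⟨Nat.prime_three⟩
  haveI : Fact (Nat.Prime 5) := ⟨by norm_num⟩
  haveI : Fact (Nat.Prime 2) := ⟨Nat.prime_two⟩
  have h3d : 3 ∣ Nat.card G := hG ▸ (dvd_pow_self 3 (by omega)).mul_left 20
  have hm := CfsgLib.SmallGroups.card_sylow_mem_filter (p := 3) (G := G) (a := B) (m := 20)
    (by rw [hG]; ring) (by norm_num)
  simp only [Finset.mem_filter, Finset.mem_range] at hm
  have hn1 := sylow_card_ne_one hna h3d
  have hfac := card_dvd_factorial hn1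
  obtain ⟨n, hn⟩ : ∃ n, Nat.card (Sylow 3 G) = n := ⟨_, rfl⟩
  rw [hn] at hm hn1 hfac
  have hn' : n = 4 ∨ n = 10 := by
    have key : ∀ n ∈ Nat.divisors 20, n % 3 = 1 → n = 1 ∨ n = 4 ∨ n = 10 := by decide
    have := key n (Nat.mem_divisors.2 ⟨Nat.dvd_of_mod_eq_zero hm.2.1, by norm_num⟩) hm.2.2
    omega
  rcases hn' with rfl | rfl
  · have : 5 ∣ (4).factorial := (show 5 ∣ Nat.card G by rw [hG]; exact Dvd.dvd.mul_right (by norm_num) _).trans hfac
    norm_num [Nat.factorial] at this
  have hB4 : B ≤ 4 := by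
    by_contra h
    have : 3 ^ 5 ∣ (10).factorial :=
      ((Nat.pow_dvd_pow 3 (show 5 ≤ B by omega)).trans (hG ▸ dvd_mul_left _ _)).trans hfac
    norm_num [Nat.factorial] at this
  interval_cases B
  · exact small_order hna (by rw [hG]; norm_num) (by rw [hG]; simp)
  · exact small_order hna (by rw [hG]; norm_num) (by rw [hG]; simp)
  -- order 1620
  obtain ⟨Q⟩ : Nonempty (Sylow 5 G) := inferInstance
  have hQ : Nat.card (Q : Subgroup G) = 5 := by
    simpa using CfsgLib.SmallGroups.card_sylow_eq (p := 5) (a := 1) (m := 324) (by rw [hG]; rfl) (by norm_num) Q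
  have hC := Cfsg.Agent.S0904.result 2 3 5 2 4 Nat.prime_two Nat.prime_three (by norm_num) (by norm_num)
    (by norm_num) (by rw [hG]; norm_num) Q
  set N := normalizer ((Q : Subgroup G) : Set G) with hN
  haveI : IsCyclic (Q : Subgroup G) := isCyclic_of_prime_card hQ
  have hker : (Subgroup.normalizerMonoidHom (Q : Subgroup G)).ker = (Q : Subgroup G).subgroupOf N := by
    rw [normalizerMonoidHom_ker]
    exact congrArg (fun K : Subgroup G => K.subgroupOf N) hC
  have hrange : Nat.card (Subgroup.normalizerMonoidHom (Q : Subgroup G)).range ∣ 4 := by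
    have := Subgroup.card_subgroup_dvd_card (Subgroup.normalizerMonoidHom (Q : Subgroup G)).range
    rwa [IsCyclic.card_mulAut, hQ, Nat.totient_prime (by norm_num)] at this
  have hcN : Nat.card N = 5 * Nat.card (Subgroup.normalizerMonoidHom (Q : Subgroup G)).range := by
    rw [← Subgroup.card_mul_index (Subgroup.normalizerMonoidHom (Q : Subgroup G)).ker, Subgroup.index_ker, hker,
      Nat.card_congr (subgroupOfEquivOfLe le_normalizer).toEquiv, hQ]
  have hmul := CfsgLib.SmallGroups.card_sylow_mul_card_normalizer Q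
  rw [hcN, hG] at hmul
  have h5 := card_sylow_modEq_one 5 G
  have hn5 := sylow_card_ne_one hna (p := 5) (by rw [hG]; norm_num)
  have hfac5 := card_dvd_factorial (p := 5) hn5
  have hr : Nat.card (Subgroup.normalizerMonoidHom (Q : Subgroup G)).range = 4 := by
    have key : ∀ e ∈ Nat.divisors 4, (324 / e) % 5 = 1 → e = 4 := by decide +kernel
    refine key _ (Nat.mem_divisors.2 ⟨hrange, by norm_num⟩) ?_
    have hc : 324 / Nat.card (Subgroup.normalizerMonoidHom (Q : Subgroup G)).range = Nat.card (Sylow 5 G) :=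
      Nat.div_eq_of_eq_mul_left Nat.card_pos (Nat.eq_of_mul_eq_mul_left (show 0 < 5 by norm_num) (by
        rw [mul_left_comm, hmul]; norm_num))
    rw [hc]
    exact h5
  -- a cyclic group of order four is a section
  haveI hcyc : IsCyclic (MulAut (Q : Subgroup G)) := by
    haveI : Fintype (Q : Subgroup G) := Fintype.ofFinite _
    haveI : IsCyclic (ZMod (Nat.card (Q : Subgroup G)))ˣ := ZMod.isCyclic_units_prime (hQ.symm ▸ Nat.prime_five)
    exact isCyclic_of_surjective (IsCyclic.mulAutMulEquiv (Q : Subgroup G)).symm.toMonoidHom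
      (IsCyclic.mulAutMulEquiv (Q : Subgroup G)).symm.surjective
  haveI : IsCyclic (Subgroup.normalizerMonoidHom (Q : Subgroup G)).range := inferInstance
  obtain ⟨⟨_, g, rfl⟩, hgen⟩ := IsCyclic.exists_ofOrder_eq_natCard
    (α := (Subgroup.normalizerMonoidHom (Q : Subgroup G)).range)
  rw [hr] at hgen
  have h4 : 4 ∣ orderOf (g : G) := by
    rw [orderOf_coe, ← hgen, ← Subgroup.orderOf_coe]
    exact orderOf_map_dvd _ g
  obtain ⟨T⟩ : Nonempty (Sylow 2 G) := inferInstance
  obtain ⟨j, hj⟩ := h4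
  have hord : orderOf ((g : G) ^ j) = 4 := by
    have hj0 : j ≠ 0 := fun h => by rw [h, mul_zero] at hj; exact (orderOf_pos (g : G)).ne' hj
    rw [orderOf_pow_of_dvd hj0 ⟨4, by rw [hj, mul_comm]⟩, hj, Nat.mul_div_cancel _ (Nat.pos_of_ne_zero hj0)]
  have hp : IsPGroup 2 (zpowers ((g : G) ^ j)) := IsPGroup.of_card (n := 2) (by rw [Nat.card_zpowers, hord]; rfl)
  obtain ⟨T', hT'⟩ := hp.exists_le_sylow
  obtain ⟨hk, -⟩ := Cfsg.Agent.S0992.result hna (by rw [hG]; decide) (by rw [hG]; norm_num) T'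
  haveI := hk
  have h2 : orderOf (⟨(g : G) ^ j, hT' (mem_zpowers _)⟩ : (T' : Subgroup G)) ∣ 2 :=
    (Monoid.order_dvd_exponent _).trans (IsKleinFour.exponent_two (G := (T' : Subgroup G))).dvd
  rw [orderOf_mk, hord] at h2
  norm_num at h2

/-- No simple group of order `4 p^A 3^B` with `p ≥ 5`, `A ∈ {1, 2}`, `B ≥ 2`. -/
theorem not_block (hna : ¬ IsMulCommutative G) {p A B : ℕ} (hp : p.Prime) (hp5 : 5 ≤ p) (hA1 : 1 ≤ A)
    (hA2 : A ≤ 2) (hB : 2 ≤ B) (hG : Nat.card G = 4 * p ^ A * 3 ^ B) : False := by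
  classical
  haveI : Fact (Nat.Prime 2) := ⟨Nat.prime_two⟩
  have hodd : Odd (p ^ A * 3 ^ B) := ((hp.odd_of_ne_two (by omega)).pow).mul ((by decide : Odd 3).pow)
  obtain ⟨P⟩ : Nonempty (Sylow 2 G) := inferInstance
  have h8 : ¬ 8 ∣ Nat.card G := by
    rw [hG, mul_assoc, show 8 = 4 * 2 by rfl, Nat.mul_dvd_mul_iff_left (by norm_num)]
    exact fun h => (Nat.not_even_iff_odd.2 hodd) (even_iff_two_dvd.2 h)
  obtain ⟨hK, hrel⟩ := Cfsg.Agent.S0992.result hna (by rw [hG, mul_assoc]; exact (show Even 4 by decide).mul_right _) h8 P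
  have hone : ∀ s t : G, orderOf s = 2 → orderOf t = 2 → IsConj s t := by
    have h1 : Nat.card {C : ConjClasses G // ∃ t : G, orderOf t = 2 ∧ ConjClasses.mk t = C} = 1 := by
      refine CfsgLib.Invol.card_classes_of_not_central P hK fun hc => ?_
      have : (centralizer ((P : Subgroup G) : Set G)).relIndex (normalizer ((P : Subgroup G) : Set G)) = 1 :=
        relIndex_eq_one.2 fun n hn => mem_centralizer_iff.2 fun a ha => (hc n hn a ha).symm
      omega
    obtain ⟨hs, -⟩ := Nat.card_eq_one_iff_unique.1 h1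
    intro s t hs2 ht2
    exact ConjClasses.mk_eq_mk_iff_isConj.1 (congrArg Subtype.val
      (@Subsingleton.elim _ hs ⟨_, s, hs2, rfl⟩ ⟨_, t, ht2, rfl⟩))
  obtain ⟨M, hM⟩ := CfsgLib.Blocks.exists_isPModular Nat.prime_two
  obtain ⟨ζ₂, ζ₃, ζ₄, ε, hε, h21, h31, h23, h24, h34, hB0, hval, hc2, hc3, hc4, hrel'⟩ :=
    Cfsg.Agent.S0948.result M hM P hK hone
  haveI := hK
  obtain ⟨J, hJ⟩ := exists_prime_orderOf_dvd_card' (G := (P : Subgroup G)) 2 (by rw [IsKleinFour.card_four]; norm_num)
  have hJ2 : orderOf (J : G) = 2 := by rw [orderOf_coe, hJ]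
  obtain ⟨hv2, hv3, hv4⟩ := hval J hJ2
  have h41 : (ζ₄ : G → ℂ) ≠ fun _ => 1 := fun h => by
    rw [congrFun h] at hv4
    norm_num at hv4
  have hnc : ¬ ∃ N : Subgroup G, N.Normal ∧ Nat.card N = p ^ A * 3 ^ B := by
    rintro ⟨N, hN, hcard⟩
    rcases hN.eq_bot_or_eq_top with h | h
    · rw [h, card_bot] at hcard
      have := Nat.mul_le_mul (Nat.one_le_pow A p hp.pos) (Nat.le_self_pow (show B ≠ 0 by omega) 3)
      omega
    · rw [h, card_top, hG] at hcard
      have : 0 < p ^ A * 3 ^ B := hodd.pos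
      rw [mul_assoc] at hcard
      omega
  have hform := Cfsg.Agent.S4479.result M hM (p ^ A * 3 ^ B) hodd (by rw [hG, mul_assoc]) hnc P J J.2 hJ2
    ζ₂ ζ₃ ζ₄ 1 ε (-1) hB0 ⟨h21, h31, h41, h23, h24, h34⟩ ⟨Or.inl rfl, hε, Or.inr rfl⟩
    ⟨by rw [hv2]; simp, hv3, by rw [hv4]; simp⟩
  set a := Cfsg.charDegree (ζ₂ : G → ℂ) with ha
  set b := Cfsg.charDegree (ζ₃ : G → ℂ) with hb
  set c := Cfsg.charDegree (ζ₄ : G → ℂ) with hc
  have hcast : ∀ χ : Cfsg.IrrCharacter G, (χ : G → ℂ) 1 = (Cfsg.charDegree (χ : G → ℂ) : ℂ) := fun χ =>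
    CfsgLib.Char.charDegree_cast (CfsgLib.Char.isCharacter_of_isIrr χ.2)
  have hlin : 1 + (a : ℤ) + ε * b - c = 0 := by
    have h := hrel' 1 (by rw [orderOf_one]; exact odd_one)
    rw [hcast, hcast, hcast] at h
    exact_mod_cast h
  have hdeg : ∀ χ : Cfsg.IrrCharacter G, (χ : G → ℂ) ≠ (fun _ => 1) →
      1 < Cfsg.charDegree (χ : G → ℂ) ∧ Cfsg.charDegree (χ : G → ℂ) ∣ Nat.card G := by
    intro χ hχ
    have hd : Cfsg.charDegree (χ : G → ℂ) = CfsgLib.InvolChar.deg χ := by
      have := (hcast χ).symm.trans (CfsgLib.InvolChar.deg_spec χ)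
      exact_mod_cast this
    haveI := Fintype.ofFinite G
    refine ⟨?_, CfsgLib.Char.degree_dvd_card χ.2 (hcast χ)⟩
    rw [hd]
    rcases Nat.lt_or_ge 1 (CfsgLib.InvolChar.deg χ) with h | h
    · exact h
    · exfalso
      have h1 : CfsgLib.InvolChar.deg χ = 1 := by have := CfsgLib.InvolChar.deg_pos χ; omega
      refine hχ (funext fun g => ?_)
      rw [Cfsg.Agent.S3278.eq_irrOne_of_linear hna χ h1, CfsgLib.Char.irrOne_apply]
  obtain ⟨ha1, had⟩ := hdeg ζ₂ h21
  obtain ⟨hb1, hbd⟩ := hdeg ζ₃ h31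
  obtain ⟨hc1, hcd⟩ := hdeg ζ₄ h41
  rw [← ha] at ha1 had
  rw [← hb] at hb1 hbd
  rw [← hc] at hc1 hcd
  set cj := Nat.card (centralizer ({(J : G)} : Set G)) with hcj
  set co := Nat.card (centralizer ((P : Subgroup G) : Set G)) with hco
  have hcjd : cj ∣ Nat.card G := card_subgroup_dvd_card _
  have hcod : co ∣ Nat.card G := card_subgroup_dvd_card _
  have hco0 : (co : ℚ) ≠ 0 := by exact_mod_cast Nat.card_pos.ne'
  have hea0 : (a : ℚ) + 1 ≠ 0 := by positivity
  have heb0 : (b : ℚ) + ε ≠ 0 := by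
    have : (b : ℤ) + ε ≠ 0 := by rcases hε with rfl | rfl <;> omega
    exact_mod_cast this
  have hec0 : (c : ℚ) + -1 ≠ 0 := by
    have : (c : ℤ) + -1 ≠ 0 := by omega
    exact_mod_cast this
  have hZ : (Nat.card G : ℤ) * co ^ 2 * (((a : ℤ) + 1) * ((b : ℤ) + ε) * ((c : ℤ) - 1)) =
      8 * (a * b * c) * (cj : ℤ) ^ 3 := by
    have h1 : (Nat.card G : ℚ) * co ^ 2 * (((a : ℚ) + 1) * ((b : ℚ) + ε) * ((c : ℚ) + -1)) =
        8 * (a * b * c) * (cj : ℚ) ^ 3 := by
      rw [hform]
      push_cast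
      field_simp
    rw [← sub_eq_add_neg] at h1
    exact_mod_cast h1
  have h8G : 8 * (a * b * c) * cj ^ 3 ∣ 2 ^ 15 * (p ^ (6 * A) * 3 ^ (6 * B)) := by
    have e : 2 ^ 15 * (p ^ (6 * A) * 3 ^ (6 * B)) =
        8 * (Nat.card G * Nat.card G * Nat.card G) * (Nat.card G) ^ 3 := by rw [hG]; ring
    rw [e]
    exact Nat.mul_dvd_mul (Nat.mul_dvd_mul_left 8 (Nat.mul_dvd_mul (Nat.mul_dvd_mul had hbd) hcd))
      (pow_dvd_pow_of_dvd hcjd 3)
  have hEd : ((a : ℤ) + 1) * ((b : ℤ) + ε) * ((c : ℤ) - 1) ∣ ((2 ^ 15 * (p ^ (6 * A) * 3 ^ (6 * B)) : ℕ) : ℤ) := by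
    refine (Dvd.intro_left _ hZ).trans ?_
    have := Int.natCast_dvd_natCast.2 h8G
    push_cast at this ⊢
    exact this
  have hdd : ∀ d : ℕ, d ∣ Nat.card G → d ∣ 2 ^ 15 * (p ^ (6 * A) * 3 ^ (6 * B)) := fun d hd =>
    hd.trans (by
      rw [hG, mul_assoc, show 4 = 2 ^ 2 by rfl]
      exact Nat.mul_dvd_mul (Nat.pow_dvd_pow 2 (by norm_num))
        (Nat.mul_dvd_mul (Nat.pow_dvd_pow p (by omega)) (Nat.pow_dvd_pow 3 (by omega))))
  obtain ⟨rfl, rfl, ha5, hb3, hc3⟩ := CfsgLib.PQFour.degrees hp hp5 hε ha1 hb1 hc1 hc2 hc3 hc4 hlin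
    (hdd a had) (hdd b hbd) (hdd c hcd) (dvd_of_mul_right_dvd (dvd_of_mul_right_dvd hEd))
    (dvd_of_mul_left_dvd (dvd_of_mul_right_dvd hEd)) (dvd_of_mul_left_dvd hEd)
  rw [ha5, hb3, hc3] at hZ
  have hN : Nat.card G * co ^ 2 = 15 * cj ^ 3 := by
    have : (Nat.card G : ℤ) * co ^ 2 = 15 * (cj : ℤ) ^ 3 := by push_cast at hZ; linarith
    exact_mod_cast this
  rcases Nat.eq_or_lt_of_le hA1 with hA | hA
  · subst hA
    exact not_twenty hna hB (by rw [hG]; ring)
  obtain rfl : A = 2 := by omega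
  -- five divides the centralizer of the four group once
  haveI : Fact (Nat.Prime 5) := ⟨by norm_num⟩
  have h4j : 4 ∣ cj := by
    have hle : (P : Subgroup G) ≤ centralizer ({(J : G)} : Set G) := fun x hx =>
      mem_centralizer_singleton_iff.2 (congrArg Subtype.val
        (mul_comm_of_exponent_two IsKleinFour.exponent_two (⟨x, hx⟩ : (P : Subgroup G)) J))
    exact IsKleinFour.card_four (G := (P : Subgroup G)) ▸ card_dvd_of_le hle
  have h25 : ¬ 25 ∣ cj := by
    intro h
    have h100 : 100 ∣ cj := Nat.Coprime.mul_dvd_of_dvd_of_dvd (by norm_num) h4j h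
    refine index_ne_pow hna (g := (J : G)) (fun e => by rw [e, orderOf_one] at hJ2; norm_num at hJ2)
      Nat.prime_three (k := B) ?_
    obtain ⟨t, ht⟩ := h100
    refine ⟨t, Nat.eq_of_mul_eq_mul_left (show 0 < 100 by norm_num) ?_⟩
    have := (centralizer ({(J : G)} : Set G)).card_mul_index
    rw [← hcj, ht, hG] at this
    calc 100 * 3 ^ B = 4 * 5 ^ 2 * 3 ^ B := by ring
      _ = 100 * t * (centralizer ({(J : G)} : Set G)).index := this.symm
      _ = 100 * ((centralizer ({(J : G)} : Set G)).index * t) := by ring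
  have h5co : 5 ∣ co := by
    rw [hG] at hN
    have h25l : 25 ∣ 15 * cj ^ 3 := ⟨4 * 3 ^ B * co ^ 2, by rw [← hN]; ring⟩
    have h5j : 5 ∣ cj := by
      have : 5 ∣ 3 * cj ^ 3 := Nat.dvd_of_mul_dvd_mul_left (by norm_num : 0 < 5)
        (by rw [show 5 * (3 * cj ^ 3) = 15 * cj ^ 3 by ring]; exact h25l)
      exact (Fact.out : Nat.Prime 5).dvd_of_dvd_pow
        ((Nat.Coprime.dvd_of_dvd_mul_left (by norm_num) this : 5 ∣ cj ^ 3))
    obtain ⟨u, hu⟩ := h5j
    have h5 : 5 ∣ 4 * 3 ^ B * co ^ 2 := ⟨15 * u ^ 3, by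
      rw [hu] at hN
      nlinarith [hN]⟩
    refine (Fact.out : Nat.Prime 5).dvd_of_dvd_pow (Nat.Coprime.dvd_of_dvd_mul_left ?_ h5)
    exact Nat.Coprime.mul_right (by norm_num) (Nat.Coprime.pow_right _ (by norm_num))
  obtain ⟨x, hx⟩ := exists_prime_orderOf_dvd_card' (G := centralizer ((P : Subgroup G) : Set G)) 5 h5co
  have hxG : orderOf (x : G) = 5 := by rw [orderOf_coe, hx]
  have hxp : IsPGroup 5 (zpowers (x : G)) := IsPGroup.of_card (n := 1) (by rw [Nat.card_zpowers, hxG, pow_one])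
  obtain ⟨Q, hQ⟩ := hxp.exists_le_sylow
  have hQc : Nat.card (Q : Subgroup G) = 5 ^ 2 :=
    CfsgLib.SmallGroups.card_sylow_eq (m := 4 * 3 ^ B) (by rw [hG]; ring) (fun h => by
      rcases (Fact.out : Nat.Prime 5).dvd_mul.1 h with h | h
      · norm_num at h
      · have := (Fact.out : Nat.Prime 5).dvd_of_dvd_pow h
        norm_num at this) Q
  have hQle : (Q : Subgroup G) ≤ centralizer ({(x : G)} : Set G) := fun y hy =>
    mem_centralizer_singleton_iff.2 (congrArg Subtype.val
      (isMulCommutative_iff.1 (IsPGroup.isMulCommutative_of_card_eq_prime_sq hQc) ⟨y, hy⟩ ⟨x, hQ (mem_zpowers _)⟩))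
  have hPle : (P : Subgroup G) ≤ centralizer ({(x : G)} : Set G) := fun y hy =>
    mem_centralizer_singleton_iff.2 (mem_centralizer_iff.1 x.2 y hy)
  have h100 : 100 ∣ Nat.card (centralizer ({(x : G)} : Set G)) := by
    have h1 := card_dvd_of_le hQle
    have h2 := card_dvd_of_le hPle
    rw [hQc] at h1
    rw [IsKleinFour.card_four] at h2
    exact Nat.Coprime.mul_dvd_of_dvd_of_dvd (by norm_num) h2 h1
  refine index_ne_pow hna (g := (x : G)) (fun e => by rw [e, orderOf_one] at hxG; norm_num at hxG)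
    Nat.prime_three (k := B) ?_
  obtain ⟨t, ht⟩ := h100
  refine ⟨t, Nat.eq_of_mul_eq_mul_left (show 0 < 100 by norm_num) ?_⟩
  have := (centralizer ({(x : G)} : Set G)).card_mul_index
  rw [ht, hG] at this
  calc 100 * 3 ^ B = 4 * 5 ^ 2 * 3 ^ B := by ring
    _ = 100 * t * (centralizer ({(x : G)} : Set G)).index := this.symm
    _ = 100 * ((centralizer ({(x : G)} : Set G)).index * t) := by ring

/-- Order `4 p^a q^b`, `a ≤ 2`. -/
theorem shape_four (hna : ¬ IsMulCommutative G) {p q a b : ℕ} (hp : p.Prime) (hq : q.Prime) (hpq : p ≠ q)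
    (ha : a ≤ 2) (hG : Nat.card G = 4 * p ^ a * q ^ b) : Nonempty (G ≃* alternatingGroup (Fin 5)) := by
  have hA5 : ∀ {r u : ℕ}, r.Prime → 5 ≤ r → Nat.card G = 2 ^ 2 * r ^ u * 3 →
      Nonempty (G ≃* alternatingGroup (Fin 5)) := by
    intro r u hr hr5 hG'
    refine (shape_three hna Nat.prime_two hr (by norm_num) (by omega) (by omega) hG').resolve_right ?_
    rintro ⟨e⟩
    haveI : Fact (Nat.Prime 7) := ⟨by norm_num⟩
    have h168 : Nat.card (Matrix.ProjectiveSpecialLinearGroup (Fin 2) (ZMod 7)) = 168 := by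
      have h1 := CfsgLib.Classical.card_PSL_mul (F := ZMod 7) (ZMod.card 7) 2 (by norm_num)
      norm_num [Fin.prod_univ_two, -Nat.card_eq_fintype_card] at h1
      omega
    rw [Nat.card_congr e.toEquiv, h168] at hG'
    have hodd : Odd (r ^ u) := (hr.odd_of_ne_two (by omega)).pow
    rw [Nat.odd_iff] at hodd
    omega
  by_cases hp2 : p = 2
  · subst hp2
    exact (not_two_primes hna Nat.prime_two hq (u := a + 2) (v := b) (by rw [hG]; ring)).elim
  by_cases hq2 : q = 2
  · subst hq2
    exact (not_two_primes hna Nat.prime_two hp (u := b + 2) (v := a) (by rw [hG]; ring)).elim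
  have h5 : ∀ r : ℕ, r.Prime → r ≠ 2 → r ≠ 3 → 5 ≤ r := fun r hr h2 h3 => by
    by_contra h
    have := hr.two_le
    interval_cases r <;> norm_num at *
  by_cases hp3 : p = 3
  · subst hp3
    have hq5 := h5 q hq hq2 (Ne.symm hpq)
    interval_cases a
    · exact (not_two_primes hna Nat.prime_two hq (u := 2) (v := b) (by rw [hG]; ring)).elim
    · exact hA5 hq hq5 (u := b) (by rw [hG]; ring)
    · exact (not_thirty_six hna hq hq5 (B := b) (by rw [hG]; ring)).elim
  have hp5 := h5 p hp hp2 hp3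
  by_cases hq3 : q = 3
  · subst hq3
    rcases Nat.eq_zero_or_pos a with rfl | ha1
    · exact (not_two_primes hna Nat.prime_two Nat.prime_three (u := 2) (v := b) (by rw [hG]; ring)).elim
    rcases Nat.lt_or_ge b 2 with hb | hb
    · interval_cases b
      · exact (not_two_primes hna Nat.prime_two hp (u := 2) (v := a) (by rw [hG]; ring)).elim
      · exact hA5 hp hp5 (u := a) (by rw [hG]; ring)
    · exact (not_block hna hp hp5 ha1 ha hb (by rw [hG])).elim
  have hq5 := h5 q hq hq2 hq3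
  exfalso
  haveI : Fact (Nat.Prime 2) := ⟨Nat.prime_two⟩
  have hodd : Odd (p ^ a * q ^ b) := ((hp.odd_of_ne_two hp2).pow).mul ((hq.odd_of_ne_two hq2).pow)
  have h8 : ¬ 8 ∣ Nat.card G := by
    rw [hG, mul_assoc, show 8 = 4 * 2 by rfl, Nat.mul_dvd_mul_iff_left (by norm_num)]
    exact fun h => (Nat.not_even_iff_odd.2 hodd) (even_iff_two_dvd.2 h)
  obtain ⟨T⟩ : Nonempty (Sylow 2 G) := inferInstance
  obtain ⟨-, h3⟩ := Cfsg.Agent.S0992.result hna (by rw [hG, mul_assoc]; exact (show Even 4 by decide).mul_right _) h8 T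
  have h3G : 3 ∣ Nat.card G :=
    (h3 ▸ Subgroup.relIndex_dvd_card _ _ : 3 ∣ Nat.card (normalizer ((T : Subgroup G) : Set G))).trans
      (card_subgroup_dvd_card _)
  rw [hG] at h3G
  rcases Nat.prime_three.dvd_mul.1 h3G with h | h
  · rcases Nat.prime_three.dvd_mul.1 h with h | h
    · norm_num at h
    · exact hp3 ((Nat.prime_dvd_prime_iff_eq Nat.prime_three hp).1 (Nat.prime_three.dvd_of_dvd_pow h)).symm
  · exact hq3 ((Nat.prime_dvd_prime_iff_eq Nat.prime_three hq).1 (Nat.prime_three.dvd_of_dvd_pow h)).symm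

end CfsgLib.PQFour
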